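import Mathlib.AlgebraicGeometry.Morphisms.FlatRank
import Mathlib.AlgebraicGeometry.Morphisms.QuasiFinite
import Mathlib.AlgebraicGeometry.Fiber
import Mathlib.AlgebraicGeometry.Artinian
import Mathlib.AlgebraicGeometry.Morphisms.Etale
import Mathlib.FieldTheory.PurelyInseparable.Basic
import Mathlib.RingTheory.Etale.Field
import Mathlib.RingTheory.Jacobson.Ring

/-!
# Finite etale covers of zero dimensional schemes over a separably closed field

A finite etale cover of a discrete scheme locally of finite type over a separably closed field is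
determined up to isomorphism by the numbers of points of its fibres, which are its ranks.
-/

set_option autoImplicit false

universe u

open CategoryTheory CategoryTheory.Limits AlgebraicGeometry

namespace Groth.Agent.H80.CurveGlue

variable {k : Type u} [Field k] [IsSepClosed k]

theorem isSepClosed_residueField {W : Scheme.{u}} (a : W ⟶ Spec (CommRingCat.of k))
    [LocallyOfFiniteType a] (w : W) (hw : IsClosed ({w} : Set W)) :
    IsSepClosed (W.residueField w) := by
  have : IsClosedImmersion (W.fromSpecResidueField w) :=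
    .of_isPreimmersion _ (by rwa [Scheme.range_fromSpecResidueField])
  obtain ⟨φ, hφ⟩ := Spec.map_surjective (W.fromSpecResidueField w ≫ a)
  have hft : φ.hom.FiniteType :=
    (HasRingHomProperty.Spec_iff (P := @LocallyOfFiniteType)).mp (hφ ▸ inferInstance)
  letI := φ.hom.toAlgebra
  have : Algebra.FiniteType k (W.residueField w) := hft
  have : Module.Finite k (W.residueField w) := finite_of_finite_type_of_isJacobsonRing k _
  exact Algebra.IsAlgebraic.isSepClosed (F := k)

theorem finrank_SpecMap_field {K A : Type u} [Field K] [IsSepClosed K] [CommRing A] [Algebra K A]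
    [Module.Finite K A] [Algebra.Etale K A] (x : PrimeSpectrum K) :
    Scheme.Hom.finrank (Spec.map (CommRingCat.ofHom (algebraMap K A))) x =
      Nat.card (PrimeSpectrum A) := by
  rw [Scheme.Hom.finrank_SpecMap_algebraMap, Module.rankAtStalk_eq_finrank_of_free]
  have : IsArtinianRing A := IsArtinianRing.of_finite K A
  have : Fintype (PrimeSpectrum A) := Fintype.ofFinite _
  simp [(Algebra.FormallyEtale.equivPiOfIsSepClosed K A).toLinearEquiv.finrank_eq]

theorem finrank_eq_card {K : Type u} [Field K] [IsSepClosed K] {P : Scheme.{u}}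
    (p : P ⟶ Spec (CommRingCat.of K)) [IsFinite p] [Etale p] (c : Spec (CommRingCat.of K)) :
    Scheme.Hom.finrank p c = Nat.card P := by
  have : IsAffine P := isAffine_of_isAffineHom p
  obtain ⟨φ, hφ⟩ := Spec.map_surjective (P.isoSpec.inv ≫ p)
  have i1 : IsFinite (Spec.map φ) := hφ ▸ inferInstance
  have i2 : Etale (Spec.map φ) := hφ ▸ inferInstance
  have h1 : φ.hom.Finite := (IsFinite.SpecMap_iff φ).mp i1
  have h2 : φ.hom.Etale := (HasRingHomProperty.Spec_iff (P := @Etale)).mp i2
  rw [← Scheme.Hom.finrank_comp_left_of_isIso P.isoSpec.inv p, ← hφ,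
    Nat.card_congr P.isoSpec.hom.homeomorph.toEquiv]
  letI : Algebra K Γ(P, ⊤) := φ.hom.toAlgebra
  have : Module.Finite K Γ(P, ⊤) := h1
  have : Algebra.Etale K Γ(P, ⊤) := h2
  exact finrank_SpecMap_field (K := K) (A := Γ(P, ⊤)) c

theorem finrank_eq_card_fibre {W A : Scheme.{u}} (g : A ⟶ W) [IsFinite g] [Etale g]
    (a : W ⟶ Spec (CommRingCat.of k)) [LocallyOfFiniteType a] (w : W)
    (hw : IsClosed ({w} : Set W)) :
    g.finrank w = Nat.card (g ⁻¹' ({w} : Set W)) := by
  have : IsSepClosed (W.residueField w) := isSepClosed_residueField a w hw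
  let c : Spec (W.residueField w) := IsLocalRing.closedPoint (W.residueField w)
  have hc : W.fromSpecResidueField w c = w := W.fromSpecResidueField_apply w c
  have e1 : g.finrank w = Scheme.Hom.finrank (pullback.snd g (W.fromSpecResidueField w)) c :=
    (congrArg g.finrank hc.symm).trans (Scheme.Hom.finrank_pullback_snd _ _ _).symm
  have e2 : Nat.card (g ⁻¹' ({w} : Set W)) = Nat.card ↥(pullback g (W.fromSpecResidueField w)) :=
    (Nat.card_congr (g.fiberHomeo w).toEquiv).symm
  rw [e1, e2]
  exact finrank_eq_card (K := W.residueField w) (pullback.snd g (W.fromSpecResidueField w)) c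

variable {W : Scheme.{u}} [DiscreteTopology W]

theorem discrete_of_finite {A : Scheme.{u}} (g : A ⟶ W) [IsFinite g] : DiscreteTopology A := by
  refine discreteTopology_iff_isOpen_singleton.mpr fun e => ?_
  have hf : (g ⁻¹' {g e}).Finite := g.finite_preimage_singleton _
  have : DiscreteTopology (g ⁻¹' {g e}) :=
    (isDiscrete_iff_discreteTopology.mp (g.isDiscrete_preimage_singleton _))
  have h := ((isOpen_discrete ({g e} : Set W)).preimage g.continuous).isOpenMap_subtype_val _
    (isOpen_discrete ({⟨e, rfl⟩} : Set (g ⁻¹' {g e})))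
  simpa using h

/-- The open subscheme at an isolated point. -/
def pt (A : Scheme.{u}) [DiscreteTopology A] (e : A) : A.Opens := ⟨{e}, isOpen_discrete _⟩

theorem isOpenImmersion_pt_comp {A : Scheme.{u}} [DiscreteTopology A] (g : A ⟶ W) [IsFinite g]
    [Etale g] (a : W ⟶ Spec (CommRingCat.of k)) [LocallyOfFiniteType a] (e : A) :
    IsOpenImmersion ((pt A e).ι ≫ g) := by
  have : IsClosedImmersion (pt A e).ι := .of_isPreimmersion _ (by
    rw [Scheme.Opens.range_ι]; exact isClosed_discrete _)
  have hsub : Set.range ((pt A e).ι ≫ g) ⊆ Set.range (pt W (g e)).ι := by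
    rintro _ ⟨x, rfl⟩
    rw [Scheme.Opens.range_ι]
    exact congrArg g x.2
  let f := IsOpenImmersion.lift (pt W (g e)).ι ((pt A e).ι ≫ g) hsub
  have hf : f ≫ (pt W (g e)).ι = (pt A e).ι ≫ g := IsOpenImmersion.lift_fac _ _ _
  have : IsFinite (f ≫ (pt W (g e)).ι) := hf ▸ inferInstance
  have : IsFinite f := IsFinite.of_comp f (pt W (g e)).ι
  have : Etale (f ≫ (pt W (g e)).ι) := hf ▸ inferInstance
  have : Etale f := Etale.of_comp f (pt W (g e)).ι
  have : IsIso f := by
    rw [f.isIso_iff_finrank_eq]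
    funext y
    have : DiscreteTopology ↥(pt W (g e)).toScheme := inferInstanceAs (DiscreteTopology (pt W (g e)).1)
    rw [finrank_eq_card_fibre f ((pt W (g e)).ι ≫ a) y (isClosed_discrete _), Pi.one_apply,
      Nat.card_eq_one_iff_exists]
    have hs : ∀ x : (pt A e).toScheme, f x = y := fun x => (pt W (g e)).ι.isOpenEmbedding.injective
      ((by rw [← Scheme.Hom.comp_apply, hf]; exact congrArg g x.2 :
        (pt W (g e)).ι (f x) = g e).trans y.2.symm)
    exact ⟨⟨⟨e, rfl⟩, hs _⟩, fun x => Subtype.ext (Subtype.ext x.1.2)⟩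
  rw [← hf]
  infer_instance

theorem exists_hom {A B : Scheme.{u}} (g : A ⟶ W) [IsFinite g] [Etale g] (g' : B ⟶ W) [IsFinite g']
    [Etale g'] (a : W ⟶ Spec (CommRingCat.of k)) [LocallyOfFiniteType a] (β : A → B)
    (hβ : ∀ e, g' (β e) = g e) : ∃ f : A ⟶ B, f ≫ g' = g ∧ ∀ e, f e = β e := by
  have := discrete_of_finite g
  have := discrete_of_finite g'
  have hcov : TopologicalSpace.IsOpenCover (pt A) :=
    top_le_iff.mp fun x _ => TopologicalSpace.Opens.mem_iSup.mpr ⟨x, rfl⟩
  have hi := fun e => isOpenImmersion_pt_comp g' a (β e)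
  have hsub : ∀ e, Set.range ((pt A e).ι ≫ g) ⊆ Set.range ((pt B (β e)).ι ≫ g') := by
    rintro e _ ⟨x, rfl⟩
    refine ⟨⟨β e, rfl⟩, ?_⟩
    show g' (β e) = g x.1
    rw [hβ, show x.1 = e from x.2]
  let F := fun e => IsOpenImmersion.lift ((pt B (β e)).ι ≫ g') ((pt A e).ι ≫ g) (hsub e) ≫
    (pt B (β e)).ι
  have hF : ∀ e, F e ≫ g' = (pt A e).ι ≫ g := fun e => by
    simp [F, IsOpenImmersion.lift_fac]
  have hdisj : Pairwise (Function.onFun Disjoint fun e => (pt A e).ι.opensRange) := fun x y h => by
    refine disjoint_iff_inf_le.mpr fun z hz => h ?_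
    obtain ⟨h1, h2⟩ := hz
    simp only [Scheme.Opens.opensRange_ι] at h1 h2
    exact (show z = x from h1).symm.trans h2
  obtain ⟨hc⟩ := nonempty_isColimit_cofanMk_of (fun e => (pt A e).ι)
    (by simpa using hcov.iSup_eq_top) hdisj
  refine ⟨Cofan.IsColimit.desc hc F, Cofan.IsColimit.hom_ext hc _ _ fun e => ?_, fun e => ?_⟩
  · exact (reassoc_of% Cofan.IsColimit.fac hc F e) g' |>.trans (hF e)
  · have h := congrArg (fun m : (pt A e).toScheme ⟶ B => m ⟨e, rfl⟩) (Cofan.IsColimit.fac hc F e)
    exact h.trans (IsOpenImmersion.lift ((pt B (β e)).ι ≫ g') ((pt A e).ι ≫ g) (hsub e) ⟨e, rfl⟩).2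

/-- Covers of a discrete scheme with equal ranks are isomorphic. -/
theorem exists_iso {A B : Scheme.{u}} (g : A ⟶ W) [IsFinite g] [Etale g] (g' : B ⟶ W) [IsFinite g']
    [Etale g'] (a : W ⟶ Spec (CommRingCat.of k)) [LocallyOfFiniteType a]
    (hr : ∀ w, g.finrank w = g'.finrank w) : ∃ e : A ≅ B, e.hom ≫ g' = g := by
  have hc : ∀ w, Nat.card (g ⁻¹' ({w} : Set W)) = Nat.card (g' ⁻¹' ({w} : Set W)) := fun w => by
    rw [← finrank_eq_card_fibre g a w (isClosed_discrete _),
      ← finrank_eq_card_fibre g' a w (isClosed_discrete _), hr]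
  have : ∀ w, Nonempty ({e // g e = w} ≃ {e // g' e = w}) := fun w => by
    have : Finite {e // g e = w} := (g.finite_preimage_singleton w).to_subtype
    have : Finite {e // g' e = w} := (g'.finite_preimage_singleton w).to_subtype
    exact Finite.card_eq.mp (hc w)
  let β : A ≃ B := Equiv.ofFiberEquiv (f := g) (g := g') fun w => (this w).some
  obtain ⟨f, hf, hfβ⟩ := exists_hom g g' a β fun e => Equiv.ofFiberEquiv_map _ e
  have : IsFinite (f ≫ g') := hf ▸ inferInstance
  have : IsFinite f := IsFinite.of_comp f g'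
  have : Etale (f ≫ g') := hf ▸ inferInstance
  have : Etale f := Etale.of_comp f g'
  have := discrete_of_finite g'
  have : IsIso f := by
    rw [f.isIso_iff_finrank_eq]
    funext y
    rw [finrank_eq_card_fibre f (g' ≫ a) y (isClosed_discrete _), Pi.one_apply,
      Nat.card_eq_one_iff_exists]
    refine ⟨⟨β.symm y, (hfβ _).trans (β.apply_symm_apply y)⟩, fun x => Subtype.ext ?_⟩
    exact β.injective ((hfβ _).symm.trans (x.2.trans (β.apply_symm_apply y).symm))
  exact ⟨asIso f, hf⟩

end Groth.Agent.H80.CurveGlue
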