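import Groth.Agent.H80.CurveGlue.Disc
import Groth.Agent.H80.UnivHomeo.Steps
import Groth.Agent.Lib.FerrandEtale.Basic
import Groth.Agent.S1465
import Groth.Agent.S9383
import Mathlib.AlgebraicGeometry.ZariskisMainTheorem
import Mathlib.RingTheory.Etale.Pi

/-!
# Extending a cover from one of two closed subschemes meeting in points
-/

set_option autoImplicit false

universe u

open CategoryTheory CategoryTheory.Limits AlgebraicGeometry

namespace Groth.Agent.H80.CurveGlue

instance isClosedImmersion_inclusion {Z : Scheme.{u}} {I J : Z.IdealSheafData} (h : I ≤ J) :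
    IsClosedImmersion (Scheme.IdealSheafData.inclusion h) := by
  have : IsClosedImmersion (Scheme.IdealSheafData.inclusion h ≫ I.subschemeι) := by
    rw [Scheme.IdealSheafData.inclusion_subschemeι]; infer_instance
  exact .of_comp _ I.subschemeι

/-- The constant cover of rank `n`. -/
theorem exists_constant {k : Type u} [Field k] {Y : Scheme.{u}}
    (b : Y ⟶ Spec (CommRingCat.of k)) (n : ℕ) :
    ∃ (T : Scheme.{u}) (g : T ⟶ Y), IsFinite g ∧ Etale g ∧ ∀ y, g.finrank y = n := by
  let c := Spec.map (CommRingCat.ofHom (algebraMap k (Fin n → k)))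
  have : IsFinite c := (IsFinite.SpecMap_iff _).mpr (RingHom.finite_algebraMap.mpr inferInstance)
  have : Etale c := (HasRingHomProperty.Spec_iff (P := @Etale)).mpr
    (RingHom.etale_algebraMap.mpr inferInstance)
  refine ⟨pullback c b, pullback.snd c b, inferInstance, inferInstance, fun y => ?_⟩
  rw [Scheme.Hom.finrank_pullback_snd]
  refine (Scheme.Hom.finrank_SpecMap_algebraMap k (Fin n → k) _).trans ?_
  rw [Module.rankAtStalk_eq_finrank_of_free, Module.finrank_fin_fun]
  exact Nat.cast_id n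

theorem essSurj_inclusion {k : Type u} [Field k] [IsSepClosed k] {Z : Scheme.{u}}
    (a : Z ⟶ Spec (CommRingCat.of k)) [LocallyOfFiniteType a] (I J : Z.IdealSheafData)
    [ConnectedSpace I.subscheme] [DiscreteTopology (I ⊔ J).subscheme] :
    (FEt.restrict (Scheme.IdealSheafData.inclusion (inf_le_left : I ⊓ J ≤ I))).EssSurj := by
  refine ⟨fun E => ?_⟩
  have : IsFinite E.hom := E.prop.1
  have : Etale E.hom := E.prop.2
  let f : E.left ⟶ I.subscheme := E.hom
  have : IsFinite f := E.prop.1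
  have : Etale f := E.prop.2
  let n := f.finrank (Classical.arbitrary I.subscheme)
  have hn : ∀ x, f.finrank x = n := fun x =>
    (Scheme.Hom.isLocallyConstant_finrank f).apply_eq_of_preconnectedSpace x _
  obtain ⟨T, g, _, _, hg⟩ := exists_constant (J.subschemeι ≫ a) n
  let iI := Scheme.IdealSheafData.inclusion (le_sup_left : I ≤ I ⊔ J)
  let jW := Scheme.IdealSheafData.inclusion (le_sup_right : J ≤ I ⊔ J)
  obtain ⟨θ, hθ⟩ := exists_iso (pullback.snd f iI) (pullback.snd g jW)
    ((I ⊔ J).subschemeι ≫ a) fun w => by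
      rw [Scheme.Hom.finrank_pullback_snd, Scheme.Hom.finrank_pullback_snd, hn, hg]
  let h := pullback.snd f iI
  let i' := pullback.fst f iI
  let j' := θ.hom ≫ pullback.fst g jW
  have hX : IsPullback h i' iI f := (IsPullback.of_hasPullback f iI).flip
  have hY : IsPullback h j' jW g :=
    IsPullback.of_iso (IsPullback.of_hasPullback g jW).flip θ.symm (Iso.refl _) (Iso.refl _)
      (Iso.refl _) (by simp [h, ← hθ]) (by simp [j']) (by simp) (by simp)
  have h3 : ∀ y : J.subscheme, ∃ U : I.subscheme.Opens, IsAffineOpen U ∧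
      jW ⁻¹' {y} ⊆ (iI ⁻¹ᵁ U : Set (I ⊔ J).subscheme) := fun y => by
    by_cases hy : y ∈ Set.range jW
    · obtain ⟨z, rfl⟩ := hy
      obtain ⟨U, hU, hzU, -⟩ := exists_isAffineOpen_mem_and_subset (x := iI z) (U := ⊤) trivial
      exact ⟨U, hU, fun z' hz' => by
        rwa [jW.isClosedEmbedding.injective (hz' : jW z' = jW z)]⟩
    · exact ⟨⊥, isAffineOpen_bot _, fun z hz => (hy ⟨z, hz⟩).elim⟩
  obtain ⟨W, W', a₁, b₁, a', b', κ, hW, hW', -, -, hsep, hlqf, hlft, pa, pb⟩ :=
    S1465.result iI jW h3 i' j' f g h hX hY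
  have hpo := S9383.result Z I J
  let φ := hW.isoIsPushout _ _ hpo.flip
  have hφb : b₁ ≫ φ.hom = Scheme.IdealSheafData.inclusion (inf_le_left : I ⊓ J ≤ I) :=
    hW.inr_isoIsPushout_hom _ _ hpo.flip
  have hφa : a₁ ≫ φ.hom = Scheme.IdealSheafData.inclusion (inf_le_right : I ⊓ J ≤ J) :=
    hW.inl_isoIsPushout_hom _ _ hpo.flip
  let κ' := κ ≫ φ.hom
  have qa : IsPullback f b' (Scheme.IdealSheafData.inclusion (inf_le_left : I ⊓ J ≤ I)) κ' :=
    IsPullback.of_iso pb (Iso.refl _) (Iso.refl _) (Iso.refl _) φ (by simp) (by simp)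
      (by simp [hφb]) (by simp [κ'])
  have qb : IsPullback g a' (Scheme.IdealSheafData.inclusion (inf_le_right : I ⊓ J ≤ J)) κ' :=
    IsPullback.of_iso pa (Iso.refl _) (Iso.refl _) (Iso.refl _) φ (by simp) (by simp)
      (by simp [hφa]) (by simp [κ'])
  have hg' : Lib.Ferrand.GluedBy iI jW _ _ :=
    .of_isPushout (Lib.Ferrand.cover_of_isClosedImmersion iI jW) hpo
  have : IsClosedImmersion i' := MorphismProperty.of_isPullback hX inferInstance
  have : IsClosedImmersion j' := MorphismProperty.of_isPullback hY inferInstance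
  have hgl : Lib.Ferrand.GluedBy i' j' b' a' :=
    .of_isPushout (Lib.Ferrand.cover_of_isClosedImmersion i' j') hW'.flip
  have : LocallyOfFiniteType κ' := inferInstanceAs (LocallyOfFiniteType (κ ≫ φ.hom))
  have : IsSeparated κ' := inferInstanceAs (IsSeparated (κ ≫ φ.hom))
  have : LocallyQuasiFinite κ' := inferInstanceAs (LocallyQuasiFinite (κ ≫ φ.hom))
  have he : Etale κ' := Lib.FerrandEtale.etale_of_isPullback hg' qa qb
  let π : E.left ⨿ T ⟶ W' := coprod.desc b' a'
  have : Surjective π := ⟨fun p => by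
    rcases hgl.surj p with ⟨x, rfl⟩ | ⟨y, rfl⟩
    · exact ⟨(coprod.inl : E.left ⟶ E.left ⨿ T) x, by
        rw [← Scheme.Hom.comp_apply, coprod.inl_desc]⟩
    · exact ⟨(coprod.inr : T ⟶ E.left ⨿ T) y, by
        rw [← Scheme.Hom.comp_apply, coprod.inr_desc]⟩⟩
  have : UniversallyClosed (π ≫ κ') := by
    rw [coprod.desc_comp, ← qa.w, ← qb.w]
    exact inferInstanceAs (UniversallyClosed (coprod.desc _ _))
  have : UniversallyClosed κ' := UniversallyClosed.of_comp_surjective π κ'
  have : IsProper κ' := { }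
  have : IsFinite κ' := IsFinite.of_isProper_of_locallyQuasiFinite κ'
  exact ⟨MorphismProperty.Over.mk ⊤ κ' ⟨‹_›, he⟩,
    UnivHomeo.nonempty_iso_of_isPullback _ E _ b' qa.flip⟩

end Groth.Agent.H80.CurveGlue
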