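import Mathlib.AlgebraicGeometry.Morphisms.FiniteType
import Mathlib.AlgebraicGeometry.Noetherian
import Mathlib.AlgebraicGeometry.Artinian
import Mathlib.Topology.KrullDimension
import Mathlib.Topology.Sober

/-!
# Points where a closed subset of a curve meets the closure of its complement
-/

set_option autoImplicit false

universe u

open CategoryTheory AlgebraicGeometry TopologicalSpace

namespace Groth.Agent.H80.CurveGlue

theorem isMax_of_chain {Z : Type u} [TopologicalSpace Z] (hdim : topologicalKrullDim Z ≤ 1)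
    {a b c : IrreducibleCloseds Z} (h₁ : a < b) (h₂ : b < c) : False := by
  let s : LTSeries (IrreducibleCloseds Z) := LTSeries.mk 2 ![a, b, c] (Fin.strictMono_iff_lt_succ.mpr
    (by intro i; fin_cases i <;> simp [h₁, h₂]))
  have := (Order.LTSeries.length_le_krullDim s).trans hdim
  simp [s] at this

theorem isClosed_singleton_of_mem {Z : Scheme.{u}} [IsLocallyNoetherian Z]
    (hdim : topologicalKrullDim Z ≤ 1) {X : Set Z} (hX : IsClosed X) {z : Z} (hz : z ∈ X)
    (hz' : z ∈ closure Xᶜ) : IsClosed ({z} : Set Z) := by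
  by_contra hc
  obtain ⟨z', hz'c, hne⟩ : ∃ z' ∈ closure ({z} : Set Z), z' ≠ z := by
    by_contra h
    push Not at h
    exact hc (closure_subset_iff_isClosed.mp fun y hy => h y hy)
  let cl : Z → IrreducibleCloseds Z := fun y =>
    ⟨closure {y}, isIrreducible_singleton.closure, isClosed_closure⟩
  have lt : ∀ {p q : Z}, p ∈ closure ({q} : Set Z) → p ≠ q → cl p < cl q := fun {p q} hp hpq => by
    refine lt_of_le_of_ne (closure_minimal (Set.singleton_subset_iff.mpr hp) isClosed_closure) ?_
    exact fun h => hpq (inseparable_iff_closure_eq.mpr (congrArg IrreducibleCloseds.carrier h)).eq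
  have hmax : ∀ y, z ∈ closure ({y} : Set Z) → y = z := fun y hy => by
    by_contra h
    exact isMax_of_chain hdim (lt hz'c hne) (lt hy (Ne.symm h))
  obtain ⟨U, hU, hzU, -⟩ := exists_isAffineOpen_mem_and_subset (x := z) (U := ⊤) trivial
  have : IsNoetherianRing Γ(Z, U) := IsLocallyNoetherian.component_noetherian ⟨U, hU⟩
  have : NoetherianSpace U := AlgebraicGeometry.noetherianSpace_of_isAffineOpen U hU
  let p : U := ⟨z, hzU⟩
  let B : Set U := ⋃₀ {C | C ∈ irreducibleComponents U ∧ p ∉ C}
  have hB : IsClosed B := by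
    rw [show B = ⋃ C ∈ {C | C ∈ irreducibleComponents U ∧ p ∉ C}, C from Set.sUnion_eq_biUnion]
    exact (NoetherianSpace.finite_irreducibleComponents.subset fun C hC => hC.1).isClosed_biUnion
      fun C hC => isClosed_of_mem_irreducibleComponents C hC.1
  have hV : IsOpen ((fun x : U => x.1) '' Bᶜ) := U.2.isOpenMap_subtype_val _ hB.isOpen_compl
  obtain ⟨y, ⟨q, hq, rfl⟩, hyX⟩ := mem_closure_iff.mp hz' _ hV
    ⟨p, fun ⟨C, hC, hp⟩ => hC.2 hp, rfl⟩
  obtain ⟨C, hC, hqC⟩ : ∃ C ∈ irreducibleComponents U, q ∈ C :=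
    ⟨_, irreducibleComponent_mem_irreducibleComponents q, mem_irreducibleComponent⟩
  have hpC : p ∈ C := by
    by_contra h
    exact hq ⟨C, ⟨hC, h⟩, hqC⟩
  have hgen := (hC.1.isGenericPoint_genericPoint (isClosed_of_mem_irreducibleComponents C hC))
  set g := hC.1.genericPoint
  have hcl : ∀ {r : U}, r ∈ C → r.1 ∈ closure ({g.1} : Set Z) := fun {r} hr => by
    have : r ∈ closure ({g} : Set U) := hgen.def.symm ▸ hr
    have := image_closure_subset_closure_image continuous_subtype_val ⟨r, this, rfl⟩
    exact closure_mono (Set.image_singleton (f := (Subtype.val : U → Z)) (a := g)).subset this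
  have hg : g.1 = z := hmax _ (hcl hpC)
  exact hyX (closure_minimal (Set.singleton_subset_iff.mpr hz) hX (hg ▸ hcl hqC))

theorem discreteTopology_of_isClosed_singleton {W : Scheme.{u}} [IsLocallyNoetherian W]
    (h : ∀ w : W, IsClosed ({w} : Set W)) : DiscreteTopology W := by
  have : IsLocallyArtinian W := by
    refine .of_topologicalKrullDim_le_zero ?_
    refine Order.krullDim_nonpos_iff_forall_isMax.mpr fun a b hab => ?_
    obtain ⟨x, hx⟩ := (quasiSober_iff W).mp inferInstance a.isIrreducible a.isClosed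
    obtain ⟨y, hy⟩ := (quasiSober_iff W).mp inferInstance b.isIrreducible b.isClosed
    have ha : (a : Set W) = {x} := hx.def.symm.trans (h x).closure_eq
    have hb : (b : Set W) = {y} := hy.def.symm.trans (h y).closure_eq
    intro z hz
    have : x ∈ (b : Set W) := hab (ha ▸ rfl : x ∈ (a : Set W))
    have hz' : z ∈ (b : Set W) := hz
    rw [hb] at hz' this
    show z ∈ (a : Set W)
    rw [ha, hz', this]
    rfl
  infer_instance

end Groth.Agent.H80.CurveGlue
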